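import Cfsg.Agent.CosetCert.HNXFive.Cert
import Cfsg.Agent.CosetCert.CoxExtra

/-! Generated: the presentation is spelled by the certificate. -/

set_option maxRecDepth 100000

namespace Cfsg.Agent.CosetCert.HNXFive

theorem spells : Data.Spells data (wordRels relWords) subGens enc dec relWords := by
  apply spells_words_extra data
  · intro z; fin_cases z <;> exact ⟨by decide +kernel, by decide +kernel⟩
  · show ∀ x, x < 4 → _
    intro x hx
    interval_cases x <;> decide +kernel
  · show ∀ x, x < 4 → _
    intro x hx
    interval_cases x <;> exact Or.inl (by decide +kernel)
  · decide +kernel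
  · decide +kernel

theorem target_mem : PresentedGroup.mk (wordRels relWords) (FreeGroup.mk target) ∈
    Data.sub (wordRels relWords) subGens :=
  Data.word_mem log_valid spells target items 97 (by decide +kernel) (by decide +kernel)

end Cfsg.Agent.CosetCert.HNXFive
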